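import Cfsg.Agent.Blocks.Basic.Principal
import Cfsg.Agent.Constrained.HallHigman
import Cfsg.Agent.S4487

/-!
# The principal block of a p-solvable group

The principal block consists of the characters with `O_{p'}` in the kernel; inflation from a
quotient respects principal blocks.
-/

set_option autoImplicit false

namespace CfsgLib.Blocks

open Cfsg

variable {G : Type*} [Group G] {p : ℕ} {M : Ideal AlgInt}

/-- Characters inflated from the principal block of a quotient are principal. -/
theorem inflate_mem_principalBlock [Finite G] [M.IsMaximal] (N : Subgroup G) [N.Normal]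
    {ψ : IrrCharacter (G ⧸ N)} (h : ψ ∈ principalBlock M (G ⧸ N)) :
    Chars.inflate N ψ ∈ principalBlock M G := by
  classical
  haveI := Fintype.ofFinite G
  haveI := Fintype.ofFinite (G ⧸ N)
  rw [mem_principalBlock_iff] at h ⊢
  intro g
  obtain ⟨m, hm⟩ := exists_centralChar_inflate N g
  obtain ⟨h1, h2⟩ := hm (ψ : G ⧸ N → ℂ)
  rw [h2, Nat.cast_mul]
  show Congr M _ (centralChar (fun x : G => (ψ : G ⧸ N → ℂ) (x : G ⧸ N)) g)
  rw [h1, Congr, ← mul_sub]
  exact memLocalIdeal_mul_left (by simpa using memLocalRing_coe (M := M) (m : AlgInt)) (h _)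

/-- In a p-solvable group every character trivial on `O_{p'}` is in the principal block. -/
theorem mem_principalBlock_of_pPrimeCore_le [Finite G] [Fact p.Prime] (hM : IsPModular p M)
    (hG : IsPSolvable p G) {χ : IrrCharacter G}
    (hχ : pPrimeCore p G ≤ Chars.charKer (χ : G → ℂ)) : χ ∈ principalBlock M G := by
  haveI := hM.2.1
  obtain ⟨ψ, rfl⟩ := Chars.exists_inflate_eq (pPrimeCore p G) χ hχ
  refine inflate_mem_principalBlock _ ?_
  have h := Cfsg.Agent.S4487.result p M hM
    (Constrained.pPrimeCore_quotient_pPrimeCore (p := p) (G := G))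
    (Constrained.centralizer_pCore_quotient_le hG) (Chars.oneChar (G ⧸ pPrimeCore p G)) ψ
  intro g
  have h' := h g
  rw [Chars.oneChar_coe] at h'
  exact h'

end CfsgLib.Blocks
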