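import Cfsg.Agent.Eq.Def_Blocks
import Cfsg.Agent.Eq.Def_Local
import Cfsg.Agent.Blocks.PrincipalLinear
import Cfsg.Agent.Blocks.PrincipalSolvable
import Cfsg.Agent.Constrained.UpperSeries
import Cfsg.Agent.Solvable.SchurZassenhaus
import Cfsg.Agent.Transfer.Tate
import Cfsg.Agent.Transfer.NormalPComplement
import Cfsg.Agent.PLength.One

/-!
# The theorem of Isaacs and Smith on groups of p-length one

If every character of the principal block restricts irreducibly to the normalizer of a Sylow
subgroup `P` then `G` has p-length at most one.  With `R` the normal closure of `P` and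
`L = R C(P)`, block orthogonality forces `N(P) ∩ L = P C(P)`; Tate and Burnside then show that
`G` is p-solvable, so that the principal block is `Irr(G / O_{p'})` and
`G = N(P) O_{p'}(G)`.
-/

set_option autoImplicit false

namespace CfsgLib.Blocks.IsaacsSmith

open Cfsg CfsgLib CfsgLib.Blocks
open scoped ComplexConjugate

universe u

/-- A complex number of norm at most `r` and real part at least `r` is `r`. -/
theorem eq_ofReal_of_le_re {z : ℂ} {r : ℝ} (h1 : ‖z‖ ≤ r) (h2 : r ≤ z.re) : z = (r : ℂ) := by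
  have h3 : z.re = ‖z‖ := le_antisymm (Complex.re_le_norm z) (h1.trans h2)
  refine Complex.ext (le_antisymm ((Complex.re_le_norm z).trans h1) h2) ?_
  have h4 := (Complex.re_eq_norm (z := z)).1 h3
  simpa using (Complex.nonneg_iff.1 h4).2.symm

theorem re_le_map_one {X : Type*} [Group X] [Finite X] {χ : X → ℂ} (h : IsCharacter X χ)
    (x : X) : (χ x).re ≤ (χ 1).re ∧ ‖χ x‖ ≤ (χ 1).re := by
  obtain ⟨n, hn⟩ := Chars.exists_natCast_map_one h
  have h1 := Chars.norm_apply_le h x
  rw [hn, Complex.norm_natCast] at h1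
  rw [hn, Complex.natCast_re]
  exact ⟨(Complex.re_le_norm _).trans h1, h1⟩

/-- If a character takes its degree at `x`, so does each of its constituents. -/
theorem constituent_eq_one {X : Type*} [Group X] [Fintype X] {φ : X → ℂ} (hφ : IsCharacter X φ)
    (μ : IrrCharacter X) (hne : classInner φ (μ : X → ℂ) ≠ 0) {x : X} (hx : φ x = φ 1) :
    (μ : X → ℂ) x = (μ : X → ℂ) 1 := by
  obtain ⟨ψ, hψ, rfl⟩ := Chars.exists_add_of_classInner_ne_zero hφ μ hne
  have h1 := re_le_map_one (Chars.isCharacter_coe μ) x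
  have h2 := re_le_map_one hψ x
  have h3 := congrArg Complex.re hx
  simp only [Pi.add_apply, Complex.add_re] at h3
  obtain ⟨n, hn⟩ := Chars.exists_natCast_map_one (Chars.isCharacter_coe μ)
  have h4 := eq_ofReal_of_le_re h1.2 (by linarith [h2.1])
  rw [h4, hn]
  simp

/-- Elements of order prime to `p` congruent modulo a normal p-subgroup are conjugate. -/
theorem isConj_of_congr {X : Type*} [Group X] [Finite X] {p : ℕ} [Fact p.Prime] {Q : Subgroup X}
    [Q.Normal] (hQ : IsPGroup p Q) {a b : X} (ha : (orderOf a).Coprime p)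
    (hb : (orderOf b).Coprime p) (hab : a⁻¹ * b ∈ Q) : IsConj a b := by
  obtain ⟨k, hk⟩ := IsPGroup.iff_card.1 hQ
  have hca : (Nat.card (Subgroup.zpowers a)).Coprime (Nat.card Q) := by
    rw [Nat.card_zpowers, hk]; exact ha.pow_right k
  have hcb : (Nat.card (Subgroup.zpowers b)).Coprime (Nat.card Q) := by
    rw [Nat.card_zpowers, hk]; exact hb.pow_right k
  have hsup : Subgroup.zpowers a ⊔ Q = Subgroup.zpowers b ⊔ Q := by
    refine le_antisymm (sup_le ?_ le_sup_right) (sup_le ?_ le_sup_right)
    · rw [Subgroup.zpowers_le]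
      have h1 : b * (a⁻¹ * b)⁻¹ ∈ Subgroup.zpowers b ⊔ Q :=
        mul_mem (Subgroup.mem_sup_left (Subgroup.mem_zpowers b))
          (inv_mem (Subgroup.mem_sup_right hab))
      simpa using h1
    · rw [Subgroup.zpowers_le]
      have h1 : a * (a⁻¹ * b) ∈ Subgroup.zpowers a ⊔ Q :=
        mul_mem (Subgroup.mem_sup_left (Subgroup.mem_zpowers a)) (Subgroup.mem_sup_right hab)
      simpa using h1
  haveI : IsCyclic (Subgroup.zpowers a) := inferInstance
  obtain ⟨n, hn, hconj⟩ := Solvable.exists_conj_of_sup_eq Q (Subgroup.zpowers a)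
    (Subgroup.zpowers b) hsup hca hcb (Or.inr inferInstance)
  refine isConj_iff.2 ⟨n, ?_⟩
  have h1 : n * a * n⁻¹ ∈ Subgroup.zpowers b := by
    rw [← hconj]
    exact ⟨a, Subgroup.mem_zpowers a, rfl⟩
  have h2 : b⁻¹ * (n * a * n⁻¹) ∈ Q := by
    have e : b⁻¹ * (n * a * n⁻¹) = (a⁻¹ * b)⁻¹ * ((a⁻¹ * n * a) * n⁻¹) := by group
    rw [e]
    refine Q.mul_mem (Q.inv_mem hab) (Q.mul_mem ?_ (Q.inv_mem hn))
    have := Subgroup.Normal.conj_mem ‹Q.Normal› n hn a⁻¹
    rwa [inv_inv] at this
  have h3 : b⁻¹ * (n * a * n⁻¹) ∈ Subgroup.zpowers b :=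
    mul_mem (inv_mem (Subgroup.mem_zpowers b)) h1
  have h4 := Subgroup.disjoint_def.1
    (disjoint_iff.2 (Subgroup.inf_eq_bot_of_coprime hcb)) h3 h2
  exact (inv_mul_eq_one.1 h4).symm

variable {G : Type u} [Group G] {p : ℕ} {M : Ideal AlgInt}

/-- The subgroup generated by the elements of order prime to `p` centralizing `P`. -/
noncomputable def regCentralizer (p : ℕ) (P : Subgroup G) : Subgroup G :=
  Subgroup.closure {x | x ∈ Subgroup.centralizer (P : Set G) ∧ (orderOf x).Coprime p}

theorem regCentralizer_le (P : Subgroup G) :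
    regCentralizer p P ≤ Subgroup.centralizer (P : Set G) :=
  (Subgroup.closure_le _).2 fun _ hx => hx.1

theorem le_normalizer_regCentralizer (P : Subgroup G) :
    Subgroup.normalizer (P : Set G) ≤ Subgroup.normalizer (regCentralizer p P : Set G) := by
  have key : ∀ n ∈ Subgroup.normalizer (P : Set G), ∀ x ∈ regCentralizer p P,
      n * x * n⁻¹ ∈ regCentralizer p P := by
    intro n hn x hx
    induction hx using Subgroup.closure_induction with
    | mem x hx =>
      refine Subgroup.subset_closure ⟨Subgroup.mem_centralizer_iff.2 fun y hy => ?_, ?_⟩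
      · have h2 : n⁻¹ * y * n ∈ P := (Subgroup.mem_normalizer_iff''.1 hn y).1 hy
        have h3 := Subgroup.mem_centralizer_iff.1 hx.1 _ h2
        calc y * (n * x * n⁻¹) = n * ((n⁻¹ * y * n) * x) * n⁻¹ := by group
          _ = n * (x * (n⁻¹ * y * n)) * n⁻¹ := by rw [h3]
          _ = n * x * n⁻¹ * y := by group
      · rw [show n * x * n⁻¹ = MulAut.conj n x from rfl, MulEquiv.orderOf_eq]
        exact hx.2
    | one => simp
    | mul x y _ _ h1 h2 =>
      have := mul_mem h1 h2
      convert this using 1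
      group
    | inv x _ h1 =>
      have := inv_mem h1
      convert this using 1
      group
  intro n hn
  refine Subgroup.mem_normalizer_iff.2 fun x => ⟨key n hn x, fun hx => ?_⟩
  have := key n⁻¹ (inv_mem hn) _ hx
  convert this using 1
  group

section

variable [Finite G] [Fact p.Prime] (P : Sylow p G)

theorem mem_sylow_of_commute {a : G} (ha : ∃ k, orderOf a ∣ p ^ k)
    (hn : a ∈ Subgroup.normalizer ((P : Subgroup G) : Set G)) : a ∈ (P : Subgroup G) := by
  obtain ⟨k, hk⟩ := ha
  obtain ⟨j, -, hj⟩ := (Nat.dvd_prime_pow (Fact.out : p.Prime)).1 hk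
  have hap : IsPGroup p (Subgroup.zpowers a) :=
    IsPGroup.of_card (n := j) (by rw [Nat.card_zpowers, hj])
  have hsup : IsPGroup p ↥(Subgroup.zpowers a ⊔ (P : Subgroup G)) :=
    hap.to_sup_of_normal_right' P.2 (by rwa [Subgroup.zpowers_le])
  have h1 := P.3 hsup le_sup_right
  exact h1 ▸ Subgroup.mem_sup_left (Subgroup.mem_zpowers a)

theorem exists_decomp_centralizer {c : G}
    (hc : c ∈ Subgroup.centralizer ((P : Subgroup G) : Set G)) :
    ∃ a ∈ (P : Subgroup G), ∃ b ∈ regCentralizer p (P : Subgroup G), c = a * b := by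
  obtain ⟨a, b, ha, hb, rfl, hap, hbp⟩ := Transfer.exists_pPart_decomposition (p := p) c
  have hle : Subgroup.zpowers (a * b) ≤ Subgroup.centralizer ((P : Subgroup G) : Set G) :=
    Subgroup.zpowers_le.2 hc
  exact ⟨a, mem_sylow_of_commute P hap (Subgroup.centralizer_le_normalizer _ (hle ha)), b,
    Subgroup.subset_closure ⟨hle hb, hbp⟩, rfl⟩

theorem coprime_card_regCentralizer :
    (Nat.card (regCentralizer p (P : Subgroup G))).Coprime p := by
  set C := Subgroup.centralizer ((P : Subgroup G) : Set G) with hCdef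
  obtain ⟨S⟩ : Nonempty (Sylow p C) := inferInstance
  have hSP : (S : Subgroup C).map C.subtype ≤ (P : Subgroup G) := by
    rintro _ ⟨s, hs, rfl⟩
    refine mem_sylow_of_commute P ?_ (Subgroup.centralizer_le_normalizer _ s.2)
    obtain ⟨k, hk⟩ := IsPGroup.iff_orderOf.1 S.2 ⟨s, hs⟩
    rw [Subgroup.orderOf_mk] at hk
    refine ⟨k, ?_⟩
    rw [Subgroup.coe_subtype, Subgroup.orderOf_coe, hk]
  have hcomp : Cfsg.HasNormalPComplement p C :=
    Transfer.hasNormalPComplement_of_normalizer_le_centralizer S fun x _ =>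
      Subgroup.mem_centralizer_iff.2 fun s hs => Subtype.ext
        (Subgroup.mem_centralizer_iff.1 x.2 _ (hSP ⟨s, hs, rfl⟩))
  obtain ⟨N, hN, hNc, k, hk⟩ := Transfer.hasNormalPComplement_iff_exists.1 hcomp
  have hle : regCentralizer p (P : Subgroup G) ≤ N.map C.subtype := by
    refine (Subgroup.closure_le _).2 fun x hx => ⟨⟨x, hx.1⟩, ?_, rfl⟩
    refine (Transfer.mem_iff_coprime_of_pPower_index hNc hk _).2 ?_
    rw [Subgroup.orderOf_mk]
    exact hx.2
  refine hNc.coprime_dvd_left ((Subgroup.card_dvd_of_le hle).trans (dvd_of_eq ?_))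
  exact (Nat.card_congr (Subgroup.equivMapOfInjective N C.subtype C.subtype_injective).toEquiv).symm

/-- `L = R C(P)` with `R` the normal closure of `P`. -/
noncomputable def bigClosure : Subgroup G :=
  Subgroup.normalClosure ((P : Subgroup G) : Set G) ⊔
    Subgroup.centralizer ((P : Subgroup G) : Set G)

theorem sylow_le_bigClosure : (P : Subgroup G) ≤ bigClosure P :=
  (show (P : Subgroup G) ≤ Subgroup.normalClosure ((P : Subgroup G) : Set G) from
    Subgroup.le_normalClosure).trans le_sup_left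

theorem normalizer_sup_normalClosure :
    Subgroup.normalizer ((P : Subgroup G) : Set G) ⊔
      Subgroup.normalClosure ((P : Subgroup G) : Set G) = ⊤ :=
  Sylow.normalizer_sup_eq_top' P Subgroup.le_normalClosure

theorem bigClosure_normal : (bigClosure P).Normal := by
  rw [← Subgroup.normalizer_eq_top_iff, eq_top_iff, ← normalizer_sup_normalClosure P]
  refine sup_le (fun n hn => ?_) (le_sup_left.trans Subgroup.le_normalizer)
  have key : ∀ m ∈ Subgroup.normalizer ((P : Subgroup G) : Set G),
      (bigClosure P).map (MulAut.conj m).toMonoidHom ≤ bigClosure P := by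
    intro m hm
    rw [bigClosure, Subgroup.map_sup]
    refine sup_le_sup ?_ ?_
    · rintro _ ⟨x, hx, rfl⟩
      exact Subgroup.normalClosure_normal.conj_mem x hx m
    · rintro _ ⟨x, hx, rfl⟩
      refine Subgroup.mem_centralizer_iff.2 fun y hy => ?_
      have h2 : m⁻¹ * y * m ∈ (P : Subgroup G) := (Subgroup.mem_normalizer_iff''.1 hm y).1 hy
      have h3 := Subgroup.mem_centralizer_iff.1 hx _ h2
      show y * (m * x * m⁻¹) = m * x * m⁻¹ * y
      calc y * (m * x * m⁻¹) = m * ((m⁻¹ * y * m) * x) * m⁻¹ := by group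
        _ = m * (x * (m⁻¹ * y * m)) * m⁻¹ := by rw [h3]
        _ = m * x * m⁻¹ * y := by group
  refine Subgroup.mem_normalizer_iff.2 fun x => ⟨fun hx => key n hn ⟨x, hx, rfl⟩, fun hx => ?_⟩
  have := key n⁻¹ (inv_mem hn) ⟨_, hx, rfl⟩
  simpa [mul_assoc] using this

/-- An element outside `L` has class size divisible by `p`. -/
theorem dvd_index_of_not_mem {g : G} (hg : g ∉ bigClosure P) :
    p ∣ (Subgroup.centralizer ({g} : Set G)).index := by
  by_contra hd
  obtain ⟨S⟩ : Nonempty (Sylow p (Subgroup.centralizer ({g} : Set G))) := inferInstance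
  have hidx : ¬ p ∣
      ((S : Subgroup (Subgroup.centralizer ({g} : Set G))).map
        (Subgroup.centralizer ({g} : Set G)).subtype).index := by
    rw [Subgroup.index_map_subtype]
    intro h
    exact ((Fact.out : p.Prime).dvd_mul.1 h).elim S.not_dvd_index hd
  let T : Sylow p G := (S.2.map _).toSylow hidx
  obtain ⟨x, hx⟩ := MulAction.exists_smul_eq G T P
  have hc : x * g * x⁻¹ ∈ Subgroup.centralizer ((P : Subgroup G) : Set G) := by
    refine Subgroup.mem_centralizer_iff.2 fun y hy => ?_
    rw [← hx] at hy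
    obtain ⟨t, ht, rfl⟩ := hy
    obtain ⟨s, -, rfl⟩ := ht
    have hs : (s : G) * g = g * s := Subgroup.mem_centralizer_singleton_iff.1 s.2
    show x * (s : G) * x⁻¹ * (x * g * x⁻¹) = x * g * x⁻¹ * (x * (s : G) * x⁻¹)
    calc x * (s : G) * x⁻¹ * (x * g * x⁻¹) = x * ((s : G) * g) * x⁻¹ := by group
      _ = x * (g * s) * x⁻¹ := by rw [hs]
      _ = _ := by group
  refine hg ?_
  have h1 : x * g * x⁻¹ ∈ bigClosure P := Subgroup.mem_sup_right hc
  have h2 := (bigClosure_normal P).conj_mem _ h1 x⁻¹
  simpa [mul_assoc] using h2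

/-- The characters trivial on `L` are principal. -/
theorem mem_principalBlock_of_bigClosure_le (hM : IsPModular p M) {χ : IrrCharacter G}
    (h : bigClosure P ≤ Chars.charKer (χ : G → ℂ)) : χ ∈ principalBlock M G := by
  classical
  haveI := hM.2.1
  letI := Fintype.ofFinite G
  rw [mem_principalBlock_iff]
  intro g
  have h1 := Chars.map_one_ne_zero χ
  by_cases hg : g ∈ bigClosure P
  · rw [centralChar, Chars.map_eq_map_one_of_mem_charKer (h hg), mul_div_assoc, div_self h1,
      mul_one]
    exact congr_refl _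
  · obtain ⟨m, hm⟩ := dvd_index_of_not_mem P hg
    have hz : MemLocalIdeal M ((Subgroup.centralizer ({g} : Set G)).index : ℂ) :=
      (memLocalIdeal_natCast_iff hM _).2 ⟨m, hm⟩
    refine memLocalIdeal_sub hz ?_
    -- the central character is `p * j` times a ratio; the ratio is integral as `χ(1)` divides `|G:L|`
    have hdeg : ¬ p ∣ charDegree (χ : G → ℂ) := by
      haveI := bigClosure_normal P
      intro hd
      exact P.not_dvd_index ((hd.trans (Chars.charDegree_dvd_index χ _ h)).trans
        (Subgroup.index_dvd_of_le (sylow_le_bigClosure P)))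
    show MemLocalIdeal M (centralChar (χ : G → ℂ) g)
    rw [centralChar, mul_div_assoc]
    refine memLocalIdeal_mul_right hz ?_
    rw [div_eq_mul_inv, ← Chars.coe_charDegree]
    refine (localRing M).mul_mem
      (memLocalRing_of_isIntegral (Chars.isIntegral_apply (Chars.isCharacter_coe χ) g))
      (memLocalRing_inv (by simpa using memLocalRing_coe (M := M) (charDegree (χ : G → ℂ) : AlgInt))
        fun hc => hdeg ((memLocalIdeal_natCast_iff hM _).1 hc))

open Classical in
theorem sum_le_charKer_mul [Fintype G] (L : Subgroup G) [L.Normal] (g : G) :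
    ∑ χ ∈ Finset.univ.filter (fun χ : IrrCharacter G => L ≤ Chars.charKer (χ : G → ℂ)),
      (χ : G → ℂ) 1 * (χ : G → ℂ) g = if g ∈ L then (L.index : ℂ) else 0 := by
  rw [← Chars.sum_inflate L (fun χ : IrrCharacter G => (χ : G → ℂ) 1 * (χ : G → ℂ) g)]
  have h := Chars.sum_irr_map_one_mul (g : G ⧸ L)
  simp only [Chars.inflate_apply, QuotientGroup.mk_one]
  rw [h, Subgroup.index_eq_card]
  by_cases hg : g ∈ L
  · rw [if_pos hg, if_pos ((QuotientGroup.eq_one_iff g).2 hg)]
  · rw [if_neg hg, if_neg (fun h => hg ((QuotientGroup.eq_one_iff g).1 h))]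

end

/-- The hypothesis of the theorem. -/
def RestrictsIrr (M : Ideal AlgInt) (H : Subgroup G) : Prop :=
  ∀ χ ∈ principalBlock M G, IsIrrCharacter H (fun n : H => (χ : G → ℂ) n)

end CfsgLib.Blocks.IsaacsSmith
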